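import Cfsg.Agent.Lib.Helper42.CHO.XPoly

/-!
# CHO (S1083): package [EQUIV-B2-r] for all `r`
-/

set_option autoImplicit false
open scoped Matrix

namespace Cfsg.Agent.Lib.Helper42.CHO

open Cfsg.Lie Cfsg.Agent.Lib.Helper99.CHO

universe u

/-- The index type of the natural module of `B2`. -/
abbrev I5 : Type := Unit ⊕ (Fin 2 ⊕ Fin 2)

/-- Integer versions of the tables. -/
def NZ5 (r : ℕ) : Matrix I5 I5 ℤ := Matrix.of fun i j => tab3 nListB2 r (ix5 i) (ix5 j)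
def MZ5 (r : ℕ) : Matrix I5 I5 ℤ := Matrix.of fun i j => tab3 mListB2 r (ix5 i) (ix5 j)
def HZ5 (r : ℕ) : Matrix I5 I5 ℤ := Matrix.of fun i j => tab3 hListB2 r (ix5 i) (ix5 j)

/-- Integer version of `bB2`. -/
def bZ5 : chevB2.Idx → Matrix I5 I5 ℤ
  | Sum.inl i => HZ5 i.val
  | Sum.inr s => NZ5 s.val

/-- The coefficient of `t^k` of the column `I` of `xMat r t`, applied to the model. -/
def CZ5 (k : ℕ) (r : Fin chevB2.nroots) (I : chevB2.Idx) : Matrix I5 I5 ℤ :=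
  Matrix.of fun i j => ∑ J : chevB2.Idx, cf (xPoly chevB2 r J I) k * bZ5 J i j

set_option maxRecDepth 100000 in
theorem int_check5 : ∀ (r : Fin chevB2.nroots) (I : chevB2.Idx),
    (∀ J : chevB2.Idx, ∀ km ∈ xPoly chevB2 r J I, km.1 < 3) ∧
    bZ5 I = CZ5 0 r I ∧
    NZ5 r.val * bZ5 I = CZ5 0 r I * NZ5 r.val + CZ5 1 r I ∧
    MZ5 r.val * bZ5 I = CZ5 0 r I * MZ5 r.val + CZ5 1 r I * NZ5 r.val + CZ5 2 r I ∧
    CZ5 1 r I * MZ5 r.val + CZ5 2 r I * NZ5 r.val = 0 ∧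
    CZ5 2 r I * MZ5 r.val = 0 := by
  decide +kernel

/-- Casting an integer matrix to `K`. -/
def castM {ι : Type} [Fintype ι] [DecidableEq ι] (K : Type u) [Field K] :
    Matrix ι ι ℤ →+* Matrix ι ι K := (Int.castRingHom K).mapMatrix

theorem castM_apply {ι : Type} [Fintype ι] [DecidableEq ι] (K : Type u) [Field K]
    (A : Matrix ι ι ℤ) (i j : ι) : castM K A i j = ((A i j : ℤ) : K) := rfl

theorem castM_NZ5 (K : Type u) [Field K] (r : ℕ) : castM K (NZ5 r) = NB2 K r := rfl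
theorem castM_MZ5 (K : Type u) [Field K] (r : ℕ) : castM K (MZ5 r) = MB2 K r := rfl
theorem castM_bZ5 (K : Type u) [Field K] (I : chevB2.Idx) : castM K (bZ5 I) = bB2 K I := by
  rcases I with i | s <;> rfl

/-- The column sum in terms of the integer coefficient matrices. -/
theorem colsum5 (K : Type u) [Field K] (r : Fin chevB2.nroots) (t : K) (I : chevB2.Idx) :
    (∑ J, chevB2.xMat K r t J I • bB2 K J) =
      castM K (CZ5 0 r I) + t • castM K (CZ5 1 r I) + t ^ 2 • castM K (CZ5 2 r I) := by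
  have hdeg := (int_check5 r I).1
  ext i j
  simp only [Matrix.sum_apply, Matrix.smul_apply, Matrix.add_apply, smul_eq_mul, castM_apply, CZ5,
    Matrix.of_apply, Int.cast_sum, Int.cast_mul]
  rw [Finset.mul_sum, Finset.mul_sum, ← Finset.sum_add_distrib, ← Finset.sum_add_distrib]
  apply Finset.sum_congr rfl
  intro J _
  rw [xMat_eq_pev, pev_eq_cf3 t _ (hdeg J), ← castM_bZ5, castM_apply]
  ring

/-- [EQUIV-B2-r] for every `r`. -/
theorem pkgEquivB2 (r : ℕ) : PkgEquivB2At.{u} r := by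
  intro K _ hr t I
  obtain ⟨-, h0, h1, h2, h3, h4⟩ := int_check5 ⟨r, hr⟩ I
  rw [colsum5 K ⟨r, hr⟩ t I]
  have e := conj_poly t (castM K (NZ5 r)) (castM K (MZ5 r)) (castM K (bZ5 I))
    (castM K (CZ5 0 ⟨r, hr⟩ I)) (castM K (CZ5 1 ⟨r, hr⟩ I)) (castM K (CZ5 2 ⟨r, hr⟩ I))
    (by rw [h0])
    (by rw [← map_mul, h1, map_add, map_mul])
    (by rw [← map_mul, h2, map_add, map_add, map_mul, map_mul])
    (by rw [← map_mul, ← map_mul, ← map_add, h3, map_zero])
    (by rw [← map_mul, h4, map_zero])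
  rw [castM_NZ5, castM_MZ5, castM_bZ5] at e
  exact e

end Cfsg.Agent.Lib.Helper42.CHO
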