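import Cfsg.Agent.Lib.Helper99.CHO.Defs

/-!
# CHO (S1082 / S1083): an engine for the [EQUIV] packages

The entries of `D.xMat K r t` are polynomials in `t` with integer coefficients, read off the
Prelude tables by `xPoly` (no field involved).  The identity
`E_r(t) * b_I = (∑ J, xMat r t J I • b_J) * E_r(t)` with `E_r(t) = 1 + t N + t^2 M` then follows from
five `t`-free integer matrix identities, which are checked by kernel evaluation.
-/

set_option autoImplicit false
open scoped Matrix

namespace Cfsg.Agent.Lib.Helper42.CHO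

open Cfsg.Lie Cfsg.Agent.Lib.Helper99.CHO

universe u

/-- The entries of `xMat` as polynomials in `t`: lists of (degree, coefficient). -/
def xPoly (D : ChevalleyDatum) (r : Fin D.nroots) (row col : D.Idx) : List (ℕ × ℤ) :=
  match col with
  | Sum.inl i =>
    (match row with
     | Sum.inl i' => if i' = i then [(0, 1)] else []
     | Sum.inr u => if u = r then [(1, - ((D.cartanSR.getD i.val #[]).getD r.val 0))] else [])
  | Sum.inr s =>
    if s = r then (match row with | Sum.inr u => if u = r then [(0, 1)] else [] | Sum.inl _ => [])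
    else if s.val = D.negIdx.getD r.val 0 then
      (match row with
       | Sum.inl i => [(1, (D.coroot.getD r.val #[]).getD i.val 0)]
       | Sum.inr u => if u = s then [(0, 1)] else if u = r then [(2, -1)] else [])
    else
      (match row with
       | Sum.inl _ => []
       | Sum.inr u => (if u = s then [(0, 1)] else []) ++ D.chainCoeff r.val s.val u.val)

/-- Evaluation of such a polynomial at `t`. -/
def pev {K : Type u} [Field K] (t : K) (L : List (ℕ × ℤ)) : K :=
  (L.map fun km => ((km.2 : ℤ) : K) * t ^ km.1).sum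

theorem pev_nil {K : Type u} [Field K] (t : K) : pev t [] = 0 := by simp [pev]

theorem pev_cons {K : Type u} [Field K] (t : K) (a : ℕ × ℤ) (L : List (ℕ × ℤ)) :
    pev t (a :: L) = ((a.2 : ℤ) : K) * t ^ a.1 + pev t L := by simp [pev]

theorem pev_append {K : Type u} [Field K] (t : K) (L L' : List (ℕ × ℤ)) :
    pev t (L ++ L') = pev t L + pev t L' := by simp [pev]

theorem xMat_eq_pev (D : ChevalleyDatum) {K : Type u} [Field K] (r : Fin D.nroots) (t : K)
    (row col : D.Idx) : D.xMat K r t row col = pev t (xPoly D r row col) := by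
  unfold ChevalleyDatum.xMat xPoly
  rcases col with i | s <;> rcases row with i' | u
  · simp only [Matrix.of_apply]; split_ifs <;> simp [pev]
  · simp only [Matrix.of_apply]; split_ifs <;> simp [pev]
  · simp only [Matrix.of_apply]; split_ifs <;> simp [pev]
  · simp only [Matrix.of_apply]; split_ifs <;> simp [pev]

/-- The coefficient of `t^k`. -/
def cf (L : List (ℕ × ℤ)) (k : ℕ) : ℤ :=
  ((L.filter (fun km => km.1 = k)).map (fun km => km.2)).sum

theorem cf_nil (k : ℕ) : cf [] k = 0 := by simp [cf]

theorem cf_cons (a : ℕ × ℤ) (L : List (ℕ × ℤ)) (k : ℕ) :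
    cf (a :: L) k = (if a.1 = k then a.2 else 0) + cf L k := by
  unfold cf
  rw [List.filter_cons]
  split_ifs with h1 h2 h2
  · simp
  · simp at h1; exact absurd h1 h2
  · simp at h1; exact absurd h2 h1
  · simp

theorem pev_eq_cf3 {K : Type u} [Field K] (t : K) (L : List (ℕ × ℤ)) (h : ∀ km ∈ L, km.1 < 3) :
    pev t L = ((cf L 0 : ℤ) : K) + ((cf L 1 : ℤ) : K) * t + ((cf L 2 : ℤ) : K) * t ^ 2 := by
  induction L with
  | nil => simp [pev_nil, cf_nil]
  | cons a L ih =>
    have ha : a.1 < 3 := h a List.mem_cons_self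
    have ih' := ih (fun km hkm => h km (List.mem_cons_of_mem _ hkm))
    rw [pev_cons, ih', cf_cons, cf_cons, cf_cons]
    obtain ⟨k, m⟩ := a
    simp only at ha ⊢
    interval_cases k <;> simp <;> ring

/-- The algebra behind the [EQUIV] packages. -/
theorem conj_poly {K : Type u} [Field K] {ι : Type*} [Fintype ι] [DecidableEq ι] (t : K)
    (N M B C0 C1 C2 : Matrix ι ι K)
    (h0 : B = C0) (h1 : N * B = C0 * N + C1) (h2 : M * B = C0 * M + C1 * N + C2)
    (h3 : C1 * M + C2 * N = 0) (h4 : C2 * M = 0) :
    (1 + t • N + t ^ 2 • M) * B = (C0 + t • C1 + t ^ 2 • C2) * (1 + t • N + t ^ 2 • M) := by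
  subst h0
  have h3' : C1 * M = -(C2 * N) := eq_neg_of_add_eq_zero_left h3
  simp only [add_mul, mul_add, one_mul, mul_one, smul_mul_assoc, mul_smul_comm, h1, h2, h3', h4]
  module

end Cfsg.Agent.Lib.Helper42.CHO
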